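import Cfsg.Agent.EqLemmas
import Cfsg.Agent.Lib.Transfer.Residual
import Cfsg.Agent.Lib.Cores.Basic
import Cfsg.Agent.Lib.PGroup.Basic
import Cfsg.Prelude.Def_Local
import Cfsg.Prelude.Def_Transfer

/-!
# Groups with local fusion and `p`-nilpotent centralisers of elements of order `p` (owner: helper2)

* `Ctx` : the hypotheses of S3297 without the clause on elementary abelian groups
* `Ctx.nil` : centralisers of the non-trivial `p`-elements are `p`-nilpotent
* `Ctx.central` : a conjugate of a central element of `P` is central in each Sylow group around it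
* `Ctx.exists_central` : a normal subgroup of order divisible by `p` meets `Ω₁(Z(P))`
* `Ctx.pCore_eq_bot` : `O_p(G) = 1`
-/

set_option autoImplicit false
set_option linter.style.haveILetI false

namespace Cfsg.Agent.FusionSuzuki

open Cfsg Subgroup

variable {G : Type*} [Group G] {p : ℕ}

/-- The hypotheses. -/
structure Ctx (P : Sylow p G) : Prop where
  core : Cfsg.pPrimeCore p G = ⊥
  notNormal : ¬ (P : Subgroup G).Normal
  fusion : ∀ x ∈ (P : Subgroup G), ∀ y ∈ (P : Subgroup G), (∃ g : G, g * x * g⁻¹ = y) →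
    ∃ n ∈ Subgroup.normalizer ((P : Subgroup G) : Set G), n * x * n⁻¹ = y
  nilP : ∀ x ∈ (P : Subgroup G), orderOf x = p →
    Cfsg.HasNormalPComplement p ↥(Subgroup.centralizer ({x} : Set G))
  pairs : ∀ x y : G, orderOf x = p → orderOf y = p →
    Cfsg.IsPSolvable p ↥(Subgroup.closure ({x, y} : Set G))

theorem orderOf_conj (g x : G) : orderOf (g * x * g⁻¹) = orderOf x :=
  (MulAut.conj g).orderOf_eq x

variable [Finite G] [hp : Fact p.Prime] {P : Sylow p G}

/-- A `p`-element has a conjugate in `P`. -/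
theorem exists_conj_mem (P : Sylow p G) {x : G} (hx : ∃ k, orderOf x = p ^ k) :
    ∃ g : G, g * x * g⁻¹ ∈ (P : Subgroup G) := by
  obtain ⟨k, hk⟩ := hx
  obtain ⟨Q, hQ⟩ := (IsPGroup.of_card (n := k) (G := zpowers x) (p := p)
    (by rw [Nat.card_zpowers, hk])).exists_le_sylow
  obtain ⟨g, hg⟩ := MulAction.exists_smul_eq G Q P
  exact ⟨g, hg ▸ ⟨x, hQ (mem_zpowers x), rfl⟩⟩

/-- An element of order prime to `p` of a `p`-nilpotent group `C` that normalises a `p`-subgroup
centralises it. -/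
theorem commute_of_complement {C : Subgroup G} (h : Cfsg.HasNormalPComplement p C) {R : Subgroup G}
    (hR : IsPGroup p R) (hRC : R ≤ C) {y : G} (hyC : y ∈ C) (hy : y ∈ normalizer (R : Set G))
    (hco : (orderOf y).Coprime p) {r : G} (hr : r ∈ R) : y * r = r * y := by
  haveI : (pResidual p C).Normal := Transfer.pResidual_normal
  have hyk : (⟨y, hyC⟩ : C) ∈ pResidual p C :=
    (Transfer.mem_pResidual_iff h _).2 (by rwa [Subgroup.orderOf_mk])
  let c : C := ⟨y, hyC⟩ * ⟨r, hRC hr⟩ * (⟨y, hyC⟩ : C)⁻¹ * (⟨r, hRC hr⟩ : C)⁻¹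
  have hcK : c ∈ pResidual p C := by
    have h1 := (inferInstance : (pResidual p C).Normal).conj_mem _ (inv_mem hyk) ⟨r, hRC hr⟩
    have h2 := mul_mem hyk h1
    convert h2 using 1
    simp only [c, mul_assoc]
  have hcR : (c : G) ∈ R := mul_mem ((mem_normalizer_iff.1 hy r).1 hr) (inv_mem hr)
  obtain ⟨k, hk⟩ := hR ⟨(c : G), hcR⟩
  have hc1 : (c : G) ^ p ^ k = 1 := congrArg Subtype.val hk
  have hco2 := (Transfer.mem_pResidual_iff h _).1 hcK
  rw [← Subgroup.orderOf_coe] at hco2
  have hone : orderOf (c : G) = 1 :=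
    Nat.Coprime.eq_one_of_dvd (hco2.pow_right k) (orderOf_dvd_of_pow_eq_one hc1)
  have he : y * r * y⁻¹ * r⁻¹ = 1 := orderOf_eq_one_iff.1 hone
  exact mul_inv_eq_iff_eq_mul.1 (mul_inv_eq_one.1 he)

omit hp [Finite G] in
theorem mem_centralizer_conj {g x y : G} :
    y ∈ centralizer ({g * x * g⁻¹} : Set G) ↔ g⁻¹ * y * g ∈ centralizer ({x} : Set G) := by
  rw [mem_centralizer_singleton_iff, mem_centralizer_singleton_iff]
  constructor <;> intro h
  · calc g⁻¹ * y * g * x = g⁻¹ * (y * (g * x * g⁻¹)) * g := by group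
      _ = g⁻¹ * (g * x * g⁻¹ * y) * g := by rw [h]
      _ = x * (g⁻¹ * y * g) := by group
  · calc y * (g * x * g⁻¹) = g * (g⁻¹ * y * g * x) * g⁻¹ := by group
      _ = g * (x * (g⁻¹ * y * g)) * g⁻¹ := by rw [h]
      _ = g * x * g⁻¹ * y := by group

namespace Ctx

variable (h : Ctx P)

include h

/-- Centralisers of elements of order `p` are `p`-nilpotent. -/
theorem nil_prime {x : G} (hx : orderOf x = p) :
    Cfsg.HasNormalPComplement p ↥(centralizer ({x} : Set G)) := by
  obtain ⟨g, hg⟩ := exists_conj_mem P ⟨1, by rw [hx, pow_one]⟩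
  refine Transfer.hasNormalPComplement_of_injective
    (h.nilP _ hg (by rw [orderOf_conj, hx]))
    (((MulAut.conj g).toMonoidHom.comp (centralizer ({x} : Set G)).subtype).codRestrict _ fun y =>
      mem_centralizer_conj.2 ?_) fun a b hab => ?_
  · show g⁻¹ * (g * (y : G) * g⁻¹) * g ∈ _
    rw [show g⁻¹ * (g * (y : G) * g⁻¹) * g = y by group]
    exact y.2
  · exact Subtype.ext ((MulAut.conj g).injective (congrArg Subtype.val hab))

/-- Centralisers of non-trivial `p`-elements are `p`-nilpotent. -/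
theorem nil {x : G} (hx : ∃ k, orderOf x = p ^ k) (hx1 : x ≠ 1) :
    Cfsg.HasNormalPComplement p ↥(centralizer ({x} : Set G)) := by
  obtain ⟨k, hk⟩ := hx
  rcases k with _ | k
  · exact absurd (orderOf_eq_one_iff.1 (by simpa using hk)) hx1
  have hy : orderOf (x ^ p ^ k) = p := by
    rw [orderOf_pow_of_dvd (pow_ne_zero _ hp.out.ne_zero) (hk ▸ pow_dvd_pow p (Nat.le_succ k)), hk,
      Nat.pow_div (Nat.le_succ k) hp.out.pos]
    simp
  refine Transfer.hasNormalPComplement_of_injective (h.nil_prime hy)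
    (Subgroup.inclusion fun c hc => ?_) (Subgroup.inclusion_injective _)
  exact mem_centralizer_singleton_iff.2
    ((show Commute c x from mem_centralizer_singleton_iff.1 hc).pow_right _)

/-- An element of `N(P)` of order prime to `p` centralising a non-trivial central element of `P`
centralises `P`. -/
theorem commute_of_fix {u : G} (hu : u ∈ (P : Subgroup G)) (hu1 : u ≠ 1)
    (huc : ∀ s ∈ (P : Subgroup G), s * u = u * s) {y : G}
    (hy : y ∈ normalizer ((P : Subgroup G) : Set G)) (hyu : y * u = u * y)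
    (hco : (orderOf y).Coprime p) {r : G} (hr : r ∈ (P : Subgroup G)) : y * r = r * y := by
  obtain ⟨k, hk⟩ := (IsPGroup.iff_orderOf.1 P.isPGroup') ⟨u, hu⟩
  exact commute_of_complement (h.nil ⟨k, by rw [← hk, Subgroup.orderOf_mk]⟩ hu1) P.isPGroup'
    (fun s hs => mem_centralizer_singleton_iff.2 (huc s hs))
    (mem_centralizer_singleton_iff.2 hyu) hy hco hr

/-- A conjugate of a central element of `P` is central in every Sylow subgroup containing it. -/
theorem central {z : G} (hz : z ∈ (P : Subgroup G)) (hzc : ∀ s ∈ (P : Subgroup G), s * z = z * s)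
    (g : G) (Q : Sylow p G) (hQ : g * z * g⁻¹ ∈ (Q : Subgroup G)) {s : G}
    (hs : s ∈ (Q : Subgroup G)) : s * (g * z * g⁻¹) = g * z * g⁻¹ * s := by
  obtain ⟨c, hc⟩ := MulAction.exists_smul_eq G Q P
  have hmem : ∀ t ∈ (Q : Subgroup G), c * t * c⁻¹ ∈ (P : Subgroup G) := fun t ht =>
    hc ▸ ⟨t, ht, rfl⟩
  obtain ⟨n, hn, he⟩ := h.fusion z hz _ (hmem _ hQ) ⟨c * g, by group⟩
  have hs' : n⁻¹ * (c * s * c⁻¹) * n ∈ (P : Subgroup G) :=
    (mem_normalizer_iff''.1 hn _).1 (hmem s hs)
  have e := hzc _ hs'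
  have e1 : g * z * g⁻¹ = c⁻¹ * (n * z * n⁻¹) * c := by rw [he]; group
  calc s * (g * z * g⁻¹) = c⁻¹ * n * (n⁻¹ * (c * s * c⁻¹) * n * z) * n⁻¹ * c := by rw [e1]; group
    _ = c⁻¹ * n * (z * (n⁻¹ * (c * s * c⁻¹) * n)) * n⁻¹ * c := by rw [e]
    _ = g * z * g⁻¹ * s := by rw [e1]; group

omit h in
/-- A normal subgroup of order divisible by `p` contains a central element of order `p` of `P`. -/
theorem exists_central (N : Subgroup G) [hN : N.Normal] (hd : p ∣ Nat.card N) :
    ∃ z, z ∈ N ∧ z ∈ (P : Subgroup G) ∧ orderOf z = p ∧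
      ∀ s ∈ (P : Subgroup G), s * z = z * s := by
  obtain ⟨⟨x, hxN⟩, hx⟩ := exists_prime_orderOf_dvd_card' p hd
  rw [Subgroup.orderOf_mk] at hx
  obtain ⟨g, hg⟩ := exists_conj_mem P ⟨1, by rw [hx, pow_one]⟩
  set Q := (N.subgroupOf (P : Subgroup G)) with hQ
  have hne : Q ≠ ⊥ := fun e => by
    have h1 : (⟨_, hg⟩ : ↥(P : Subgroup G)) ∈ Q := hN.conj_mem x hxN g
    rw [e, mem_bot] at h1
    have h2 : g * x * g⁻¹ = 1 := congrArg Subtype.val h1
    rw [conj_eq_one_iff] at h2
    rw [h2, orderOf_one] at hx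
    exact hp.out.ne_one hx.symm
  haveI : Q.Normal := hN.subgroupOf _
  obtain ⟨w, hwQ, hw, hwc⟩ : ∃ w : ↥(P : Subgroup G), w ∈ Q ∧ orderOf w = p ∧
      w ∈ center ↥(P : Subgroup G) := by
    have hmeet : Q ⊓ center ↥(P : Subgroup G) ≠ ⊥ := by
      exact PGroup.inf_center_ne_bot P.isPGroup' (N := Q) hne
    have hd' : p ∣ Nat.card ↥(Q ⊓ center ↥(P : Subgroup G)) := by
      obtain ⟨k, hk⟩ := (P.isPGroup'.to_subgroup (Q ⊓ center ↥(P : Subgroup G))).exists_card_eq
      rcases k with _ | k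
      · exact absurd (card_eq_one.1 (by simpa using hk)) hmeet
      · exact hk ▸ dvd_pow_self p (Nat.succ_ne_zero k)
    obtain ⟨w, hw⟩ := exists_prime_orderOf_dvd_card' p hd'
    exact ⟨w, w.2.1, by rw [Subgroup.orderOf_coe]; exact hw, w.2.2⟩
  exact ⟨w, hwQ, w.2, by rw [Subgroup.orderOf_coe]; exact hw,
    fun s hs => congrArg Subtype.val (mem_center_iff.1 hwc ⟨s, hs⟩)⟩

omit h in
/-- The elements of order prime to `p` of a `p`-nilpotent group `C`, normal in it. -/
theorem isPGroup_of_core_free {C : Subgroup G} (hc : Cfsg.HasNormalPComplement p C)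
    (h1 : ∀ y ∈ C, (orderOf y).Coprime p → y = 1) : IsPGroup p C := by
  obtain ⟨k, hk⟩ := Transfer.exists_index_pResidual (G := C) (p := p)
  have hb : pResidual p C = ⊥ := (eq_bot_iff_forall _).2 fun c hcm => by
    have := (Transfer.mem_pResidual_iff hc c).1 hcm
    rw [← Subgroup.orderOf_coe] at this
    exact Subtype.ext (h1 _ c.2 this)
  rw [hb, index_bot] at hk
  exact IsPGroup.of_card hk

/-- `O_p(G) = 1`. -/
theorem pCore_eq_bot : Cfsg.pCore p G = ⊥ := by
  by_contra hne
  set R := Cfsg.pCore p G with hR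
  haveI : R.Normal := Cores.pCore_normal p G
  obtain ⟨k, hk⟩ := (Cores.isPGroup_pCore p G).exists_card_eq
  have hdvd : p ∣ Nat.card R := by
    rcases k with _ | k
    · exact absurd (card_eq_one.1 (by simpa using hk)) hne
    · exact hk ▸ dvd_pow_self p (Nat.succ_ne_zero k)
  obtain ⟨z, hzR, hzP, hz, hzc⟩ := exists_central (P := P) R hdvd
  have hz1 : z ≠ 1 := fun e => hp.out.ne_one (by rw [← hz, e, orderOf_one])
  set Cz := centralizer ({z} : Set G) with hCz
  have hPC : (P : Subgroup G) ≤ Cz := fun s hs => mem_centralizer_singleton_iff.2 (hzc s hs)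
  have hRP : R ≤ (P : Subgroup G) := Cores.pCore_le_sylow P
  -- the centraliser of `R` is a `p`-group
  set CR := centralizer (R : Set G) with hCR
  haveI : CR.Normal := Subgroup.normal_centralizer
  have hCRC : CR ≤ Cz := fun y hy =>
    mem_centralizer_singleton_iff.2 (mem_centralizer_iff.1 hy z hzR).symm
  have hcR : Cfsg.HasNormalPComplement p CR :=
    Transfer.hasNormalPComplement_of_injective (h.nil_prime hz) (Subgroup.inclusion hCRC)
      (Subgroup.inclusion_injective _)
  have hpR : IsPGroup p CR := by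
    refine isPGroup_of_core_free hcR fun y hy hco => ?_
    have hd : (Nat.card (pResidual p CR)).Coprime p :=
      Transfer.hasNormalPComplement_iff_coprime.1 hcR
    haveI : (pResidual p CR).Characteristic := inferInstance
    have hle := Cores.le_pPrimeCore (p := p)
      (Cores.map_subtype_normal_of_characteristic CR (pResidual p CR))
      (by rw [Cores.card_map_subtype]; exact hd)
    rw [h.core] at hle
    have hy' : (⟨y, hy⟩ : CR) ∈ pResidual p CR :=
      (Transfer.mem_pResidual_iff hcR _).2 (by rwa [Subgroup.orderOf_mk])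
    exact (mem_bot (G := G)).1 (hle ⟨_, hy', rfl⟩)
  have hpC : IsPGroup p Cz := by
    refine isPGroup_of_core_free (h.nil_prime hz) fun y hy hco => ?_
    have hyR : y ∈ CR := mem_centralizer_iff.2 fun r hr =>
      (commute_of_complement (h.nil_prime hz) (Cores.isPGroup_pCore p G) (hRP.trans hPC) hy
        (by rw [normalizer_eq_top_iff.2 inferInstance]; exact mem_top y) hco hr).symm
    obtain ⟨j, hj⟩ := (IsPGroup.iff_orderOf.1 hpR) ⟨y, hyR⟩
    rw [Subgroup.orderOf_mk] at hj
    exact orderOf_eq_one_iff.1 (Nat.eq_one_of_dvd_coprimes (hco.pow_right j) dvd_rfl (by rw [hj]))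
  have hCP : Cz = (P : Subgroup G) := P.is_maximal' hpC hPC
  refine h.notNormal (normalizer_eq_top_iff.1 (eq_top_iff.2 fun g _ => ?_))
  obtain ⟨n, hn, he⟩ := h.fusion z hzP _ (hRP ((inferInstance : R.Normal).conj_mem z hzR g)) ⟨g, rfl⟩
  have h1 : n⁻¹ * g ∈ (P : Subgroup G) := hCP ▸ mem_centralizer_singleton_iff.2 (by
    calc n⁻¹ * g * z = n⁻¹ * (g * z * g⁻¹) * g := by group
      _ = n⁻¹ * (n * z * n⁻¹) * g := by rw [he]
      _ = z * (n⁻¹ * g) := by group)
  rw [show g = n * (n⁻¹ * g) by group]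
  exact mul_mem hn (le_normalizer h1)

end Ctx

end Cfsg.Agent.FusionSuzuki
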